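import Mathlib

/-! The finite permutation data of `2^6 : A_7`. -/

set_option autoImplicit false

namespace CfsgLib.O7Sylow

open Equiv

/-- The signs. -/
abbrev Sg : Type := Fin 7 → ℤˣ

/-- The product of the signs. -/
def sprod : Sg →* ℤˣ where
  toFun s := ∏ i, s i
  map_one' := by simp
  map_mul' s t := by simp [Finset.prod_mul_distrib]

/-- The even sign vectors. -/
def Ev : Subgroup Sg := sprod.ker

theorem mem_Ev {s : Sg} : s ∈ Ev ↔ ∏ i, s i = 1 := Iff.rfl

/-- The alternating group of degree seven. -/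
abbrev A7 : Type := ↥(alternatingGroup (Fin 7))

/-- Sign change of two coordinates. -/
def pr (a b : Fin 7) : Sg := fun i => if i = a ∨ i = b then -1 else 1

theorem pr_mem : ∀ a b : Fin 7, a ≠ b → pr a b ∈ Ev := by
  simp only [mem_Ev]; decide +kernel

theorem pr_gen : ∀ s : Sg, ∏ i, s i = 1 →
    s = ∏ i ∈ Finset.univ.filter (fun i => s i = -1 ∧ i ≠ 0), pr i 0 := by decide +kernel

theorem card_Ev : Nat.card Ev = 64 := by
  rw [Nat.card_congr (Equiv.subtypeEquivRight fun s => mem_Ev), Nat.card_eq_fintype_card]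
  decide +kernel

theorem card_A7 : Nat.card A7 = 2520 := by
  have h := two_mul_nat_card_alternatingGroup (α := Fin 7)
  rw [Nat.card_perm, Nat.card_eq_fintype_card (α := Fin 7), Fintype.card_fin,
    show Nat.factorial 7 = 5040 from rfl] at h
  show Nat.card (alternatingGroup (Fin 7)) = 2520
  omega

/-- The central involution. -/
def zp : Perm (Fin 7) := swap 0 2 * swap 1 3

/-- The first generator. -/
def up : Perm (Fin 7) := swap 0 2 * swap 4 5

/-- The second generator. -/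
def wp : Perm (Fin 7) := swap 0 1 * swap 2 3

/-- The eight elements. -/
def dl : Fin 8 → Perm (Fin 7) :=
  ![1, up, wp, up * wp, wp * up, up * wp * up, wp * up * wp, zp]

theorem dl_spec : ∀ k, (∀ i, dl k (zp i) = zp (dl k i)) ∧ dl k 6 = 6 ∧ Perm.sign (dl k) = 1 := by
  decide +kernel

theorem dl_inj' : ∀ k l, (∀ i, dl k i = dl l i) → k = l := by decide +kernel

theorem dl_inj : Function.Injective dl := fun k l h => dl_inj' k l fun i => by rw [h]

theorem tables : ∀ a b e f : Fin 7, [a, b, zp a, zp b, e, f, (6 : Fin 7)].Nodup → zp e = e → zp f = f →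
    ∃ k, (∀ i, ![a, b, zp a, zp b, e, f, 6] i = dl k i) ∨
      (∀ i, ![a, b, zp a, zp b, e, f, 6] i = (dl k * swap 4 5 : Perm (Fin 7)) i) := by
  decide +kernel

/-- The Sylow subgroup of `A_7`. -/
def D : Subgroup A7 where
  carrier := {π | (∀ i, π.1 (zp i) = zp (π.1 i)) ∧ π.1 6 = 6}
  one_mem' := ⟨fun _ => rfl, rfl⟩
  mul_mem' {a b} ha hb := ⟨fun i => by
    show a.1 (b.1 (zp i)) = zp (a.1 (b.1 i)); rw [hb.1, ha.1], by
    show a.1 (b.1 6) = 6; rw [hb.2, ha.2]⟩
  inv_mem' {a} ha := ⟨fun i => a.1.injective (by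
    show a.1 (a.1.symm (zp i)) = a.1 (zp (a.1.symm i))
    rw [ha.1, Equiv.apply_symm_apply, Equiv.apply_symm_apply]), a.1.injective (by
    show a.1 (a.1.symm 6) = a.1 6
    rw [Equiv.apply_symm_apply, ha.2])⟩

theorem mem_D {π : A7} : π ∈ D ↔ (∀ i, π.1 (zp i) = zp (π.1 i)) ∧ π.1 6 = 6 := Iff.rfl

/-- The elements of the list in `A_7`. -/
def dA (k : Fin 8) : A7 := ⟨dl k, (dl_spec k).2.2⟩

theorem dA_mem (k : Fin 8) : dA k ∈ D := ⟨(dl_spec k).1, (dl_spec k).2.1⟩

theorem exists_dl {π : A7} (h : π ∈ D) : ∃ k, π = dA k := by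
  obtain ⟨hz, h6⟩ := mem_D.1 h
  have h2 : zp (π.1 0) = π.1 2 := by rw [← hz]; exact congrArg π.1 (by decide : zp 0 = (2 : Fin 7))
  have h3 : zp (π.1 1) = π.1 3 := by rw [← hz]; exact congrArg π.1 (by decide : zp 1 = (3 : Fin 7))
  have h4 : zp (π.1 4) = π.1 4 := by rw [← hz]; exact congrArg π.1 (by decide : zp 4 = (4 : Fin 7))
  have h5 : zp (π.1 5) = π.1 5 := by rw [← hz]; exact congrArg π.1 (by decide : zp 5 = (5 : Fin 7))
  have hl : [π.1 0, π.1 1, zp (π.1 0), zp (π.1 1), π.1 4, π.1 5, (6 : Fin 7)] = (List.finRange 7).map π.1 := by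
    rw [h2, h3, show List.finRange 7 = [0, 1, 2, 3, 4, 5, 6] from by decide]
    simp only [List.map_cons, List.map_nil, h6]
  obtain ⟨k, hk⟩ := tables _ _ _ _ (hl ▸ (List.nodup_finRange 7).map π.1.injective) h4 h5
  have he : ∀ i, ![π.1 0, π.1 1, zp (π.1 0), zp (π.1 1), π.1 4, π.1 5, 6] i = π.1 i := by
    intro i; fin_cases i <;> simp [h2, h3, h6]
  rcases hk with hk | hk
  · exact ⟨k, Subtype.ext (Equiv.ext fun i => (he i).symm.trans (hk i))⟩
  · exfalso
    have e : π.1 = dl k * swap 4 5 := Equiv.ext fun i => (he i).symm.trans (hk i)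
    have hs : Perm.sign π.1 = 1 := π.2
    rw [e, map_mul, (dl_spec k).2.2, Perm.sign_swap (by decide : (4 : Fin 7) ≠ 5)] at hs
    exact absurd hs (by decide)

theorem card_D : Nat.card D = 8 := by
  rw [← Nat.card_eq_of_bijective (fun k : Fin 8 => (⟨dA k, dA_mem k⟩ : D))
    ⟨fun k l h => dl_inj (congrArg (fun x : D => x.1.1) h), fun x => by
      obtain ⟨k, hk⟩ := exists_dl x.2
      exact ⟨k, Subtype.ext hk.symm⟩⟩, Nat.card_eq_fintype_card, Fintype.card_fin]

theorem dl_ncomm : ∃ k l, ∃ i, dl k (dl l i) ≠ dl l (dl k i) := by decide +kernel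

theorem only_six : ∀ p : Fin 7, (∀ k, dl k p = p) → p = 6 := by decide +kernel

theorem only_z : ∀ k, k ≠ 0 → (∀ l i, dl k (dl l i) = dl l (dl k i)) → k = 7 := by decide +kernel

theorem z_central : ∀ l i, dl 7 (dl l i) = dl l (dl 7 i) := by decide +kernel

theorem fix_one : ∀ k, k ≠ 0 → (Finset.univ.filter fun s : Sg =>
    (∏ i, s i = 1) ∧ ∀ i, s (dl k i) = s i).card ≤ 16 := by decide +kernel

theorem fix_two : ∀ k l, k ≠ 0 → l ≠ 0 → k ≠ l → (∀ i, dl k (dl l i) = dl l (dl k i)) →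
    (Finset.univ.filter fun s : Sg =>
      (∏ i, s i = 1) ∧ (∀ i, s (dl k i) = s i) ∧ ∀ i, s (dl l i) = s i).card ≤ 8 := by decide +kernel

theorem moves : ∀ k, k ≠ 0 → ∃ a b : Fin 7, a ≠ b ∧ ∃ i, pr a b (dl k i) ≠ pr a b i := by decide +kernel

theorem gadget : ∀ s : Sg, ∏ i, s i = 1 → (∃ i, s i ≠ 1) → ∃ a b c d : Fin 7, s a = -1 ∧ s b = 1 ∧
    s c = s d ∧ c ≠ d ∧ c ≠ a ∧ c ≠ b ∧ d ≠ a ∧ d ≠ b := by decide +kernel

theorem two_others : ∀ i j : Fin 7, ∃ k l : Fin 7, k ≠ l ∧ k ≠ i ∧ k ≠ j ∧ l ≠ i ∧ l ≠ j := by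
  decide +kernel

/-- `A_7` is transitive on ordered pairs. -/
theorem exists_pair_map {a b i j : Fin 7} (hab : a ≠ b) (hij : i ≠ j) :
    ∃ π : A7, π.1 a = i ∧ π.1 b = j := by
  let σ : Perm (Fin 7) := swap (swap a i b) j * swap a i
  have hb' : swap a i b ≠ i := by
    intro h
    exact hab ((swap a i).injective ((swap_apply_left a i).trans h.symm))
  have ha : σ a = i := by
    show swap (swap a i b) j (swap a i a) = i
    rw [swap_apply_left, swap_apply_of_ne_of_ne hb'.symm hij]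
  have hb : σ b = j := by
    show swap (swap a i b) j (swap a i b) = j
    rw [swap_apply_left]
  rcases Int.units_eq_one_or (Perm.sign σ) with h | h
  · exact ⟨⟨σ, h⟩, ha, hb⟩
  · obtain ⟨k, l, hkl, hki, hkj, hli, hlj⟩ := two_others i j
    refine ⟨⟨swap k l * σ, ?_⟩, ?_, ?_⟩
    · rw [Perm.mem_alternatingGroup, map_mul, Perm.sign_swap hkl, h]; decide
    · show swap k l (σ a) = i
      rw [ha, swap_apply_of_ne_of_ne hki.symm hli.symm]
    · show swap k l (σ b) = j
      rw [hb, swap_apply_of_ne_of_ne hkj.symm hlj.symm]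

theorem conj_up : ∀ i, (swap 1 4 * swap 3 5 : Perm (Fin 7)) (zp i) =
    up ((swap 1 4 * swap 3 5 : Perm (Fin 7)) i) := by decide +kernel

theorem conj_wp : ∀ i, (swap 1 2 * swap 4 5 : Perm (Fin 7)) (zp i) =
    wp ((swap 1 2 * swap 4 5 : Perm (Fin 7)) i) := by decide +kernel

/-- Anything closed under products containing the two generators contains the list. -/
theorem dA_of_gens (P : Subgroup A7) (hu : dA 1 ∈ P) (hw : dA 2 ∈ P) (k : Fin 8) : dA k ∈ P := by
  have e : dA k = ![1, dA 1, dA 2, dA 1 * dA 2, dA 2 * dA 1, dA 1 * dA 2 * dA 1, dA 2 * dA 1 * dA 2,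
      dA 1 * dA 2 * (dA 1 * dA 2)] k := by
    refine Subtype.ext (Equiv.ext fun i => ?_)
    revert i
    revert k
    decide +kernel
  rw [e]
  fin_cases k <;> simp [hu, hw, P.one_mem, P.mul_mem]

end CfsgLib.O7Sylow
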