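import Mathlib
import Cfsg.Agent.Lib.O7Sylow.Perm

/-! A group containing `2^6 : A_7` with the fusion of `Ω_7(q)`. -/

set_option autoImplicit false

namespace CfsgLib.O7Sylow

open Equiv

/-- The action of `A_7` on the even sign vectors. -/
def act (π : A7) (s : Ev) : Ev :=
  ⟨fun i => (s : Sg) (π.1⁻¹ i), by
    rw [mem_Ev, Equiv.prod_comp (π.1⁻¹ : Perm (Fin 7)) (s : Sg)]
    exact mem_Ev.1 s.2⟩

theorem act_apply (π : A7) (s : Ev) (i : Fin 7) : (act π s : Sg) i = (s : Sg) (π.1⁻¹ i) := rfl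

theorem act_act_inv (π : A7) (s : Ev) : act π (act π⁻¹ s) = s :=
  Subtype.ext (funext fun i => by simp [act_apply])

/-- The two coordinate sign change. -/
def prE (a b : Fin 7) (h : a ≠ b) : Ev := ⟨pr a b, pr_mem a b h⟩

/-- The central involution in `A_7`. -/
def zA : A7 := dA 7

theorem dA_zero : dA 0 = 1 := Subtype.ext rfl

/-- The data. -/
structure Mod (G : Type*) [Group G] where
  /-- the diagonal elements -/
  sg : Ev →* G
  /-- the permutations -/
  pm : A7 →* G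
  conj : ∀ π s, pm π * sg s * (pm π)⁻¹ = sg (act π s)
  inj : ∀ s π, sg s * pm π = 1 → s = 1 ∧ π = 1
  norm : ∀ g : G, (∀ s, ∃ t, g * sg s * g⁻¹ = sg t) → ∃ s π, g = sg s * pm π
  fuse : ∃ g : G, g * sg (prE 0 2 (by decide)) * g⁻¹ = pm zA

namespace Mod

variable {G : Type*} [Group G] (m : Mod G)

/-- Transport along an isomorphism. -/
def map {G' : Type*} [Group G'] (e : G ≃* G') : Mod G' where
  sg := e.toMonoidHom.comp m.sg
  pm := e.toMonoidHom.comp m.pm
  conj π s := by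
    show e (m.pm π) * e (m.sg s) * (e (m.pm π))⁻¹ = e _
    rw [← map_inv, ← map_mul, ← map_mul, m.conj]
  inj s π h := m.inj s π (e.injective (by
    rw [map_mul, map_one]; exact h))
  norm g h := by
    obtain ⟨s, π, hg⟩ := m.norm (e.symm g) fun s => by
      obtain ⟨t, ht⟩ := h s
      refine ⟨t, e.injective ?_⟩
      rw [map_mul, map_mul, map_inv, e.apply_symm_apply]
      exact ht
    refine ⟨s, π, ?_⟩
    show g = e (m.sg s) * e (m.pm π)
    rw [← map_mul, ← hg, e.apply_symm_apply]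
  fuse := by
    obtain ⟨g, hg⟩ := m.fuse
    refine ⟨e g, ?_⟩
    show e g * e (m.sg _) * (e g)⁻¹ = e _
    rw [← map_inv, ← map_mul, ← map_mul, hg]

theorem mul_eq (s t : Ev) (π ρ : A7) :
    m.sg s * m.pm π * (m.sg t * m.pm ρ) = m.sg (s * act π t) * m.pm (π * ρ) := by
  have h : m.sg (act π t) * m.pm π = m.pm π * m.sg t := by rw [← m.conj]; group
  calc m.sg s * m.pm π * (m.sg t * m.pm ρ) = m.sg s * (m.pm π * m.sg t) * m.pm ρ := by group
    _ = m.sg s * (m.sg (act π t) * m.pm π) * m.pm ρ := by rw [h]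
    _ = _ := by rw [map_mul, map_mul]; group

theorem eq_iff {s t : Ev} {π ρ : A7} :
    m.sg s * m.pm π = m.sg t * m.pm ρ ↔ s = t ∧ π = ρ := by
  refine ⟨fun h => ?_, fun h => by rw [h.1, h.2]⟩
  have h' : m.sg (t⁻¹ * s) * m.pm (π * ρ⁻¹) = 1 := by
    rw [map_mul, map_mul, map_inv, map_inv]
    calc (m.sg t)⁻¹ * m.sg s * (m.pm π * (m.pm ρ)⁻¹) = (m.sg t)⁻¹ * (m.sg s * m.pm π) * (m.pm ρ)⁻¹ := by group
      _ = 1 := by rw [h]; group
  obtain ⟨h1, h2⟩ := m.inj _ _ h'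
  exact ⟨(inv_mul_eq_one.1 h1).symm, mul_inv_eq_one.1 h2⟩

/-- The diagonal part and the group of the `D`-parts. -/
def S0 : Subgroup G where
  carrier := {g | ∃ s : Ev, ∃ π ∈ D, g = m.sg s * m.pm π}
  one_mem' := ⟨1, 1, D.one_mem, by simp⟩
  mul_mem' := by
    rintro a b ⟨s, π, hπ, rfl⟩ ⟨t, ρ, hρ, rfl⟩
    exact ⟨_, _, D.mul_mem hπ hρ, m.mul_eq s t π ρ⟩
  inv_mem' := by
    rintro a ⟨s, π, hπ, rfl⟩
    refine ⟨act π⁻¹ s⁻¹, π⁻¹, D.inv_mem hπ, ?_⟩
    rw [← m.conj, mul_inv_rev, map_inv, map_inv]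
    group

theorem mem_S0 {g : G} : g ∈ m.S0 ↔ ∃ s : Ev, ∃ π ∈ D, g = m.sg s * m.pm π := Iff.rfl

theorem sg_mem (s : Ev) : m.sg s ∈ m.S0 := ⟨s, 1, D.one_mem, by simp⟩

theorem pm_mem {π : A7} (h : π ∈ D) : m.pm π ∈ m.S0 := ⟨1, π, h, by simp⟩

theorem sg_inj : Function.Injective m.sg := fun s t h =>
  ((m.eq_iff (π := 1) (ρ := 1)).1 (by rw [h])).1

theorem conj_sg (s t : Ev) (π : A7) :
    m.sg s * m.pm π * m.sg t * (m.sg s * m.pm π)⁻¹ = m.sg (act π t) := by
  have hc : Commute (m.sg s) (m.sg (act π t)) := (Commute.all s _).map m.sg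
  calc m.sg s * m.pm π * m.sg t * (m.sg s * m.pm π)⁻¹
      = m.sg s * (m.pm π * m.sg t * (m.pm π)⁻¹) * (m.sg s)⁻¹ := by group
    _ = m.sg s * m.sg (act π t) * (m.sg s)⁻¹ := by rw [m.conj]
    _ = _ := by rw [hc.eq]; group

theorem card_S0 : Nat.card m.S0 = 2 ^ 9 := by
  have h := Nat.card_eq_of_bijective
    (fun p : Ev × D => (⟨m.sg p.1 * m.pm p.2.1, p.1, p.2.1, p.2.2, rfl⟩ : m.S0))
    ⟨fun p q e => by
      obtain ⟨h1, h2⟩ := m.eq_iff.1 (congrArg Subtype.val e)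
      exact Prod.ext h1 (Subtype.ext h2),
    fun x => by
      obtain ⟨s, π, hπ, e⟩ := x.2
      exact ⟨(s, ⟨π, hπ⟩), Subtype.ext e.symm⟩⟩
  rw [← h, Nat.card_prod, card_Ev, card_D]
  norm_num

theorem card_le (P : Subgroup Ev) (p : Sg → Prop) [DecidablePred p] (h : ∀ x ∈ P, p x) :
    Nat.card P ≤ (Finset.univ.filter fun s : Sg => (∏ i, s i = 1) ∧ p s).card := by
  classical
  rw [← Nat.card_eq_finsetCard]
  exact Nat.card_le_card_of_injective
    (fun x => ⟨(x.1 : Sg), Finset.mem_filter.2 ⟨Finset.mem_univ _, mem_Ev.1 x.1.2, h x.1 x.2⟩⟩)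
    fun a b e => Subtype.ext (Subtype.ext (Subtype.mk.inj e))

/-- The diagonal part is the only abelian subgroup of order `64` of `S0`. -/
theorem abelian_mem (A : Subgroup G) (hA : A ≤ m.S0) (hc : ∀ x ∈ A, ∀ y ∈ A, x * y = y * x)
    (hcard : Nat.card A = 64) : ∀ g ∈ A, ∃ s, g = m.sg s := by
  classical
  let P : Subgroup Ev := A.comap m.sg
  let B : Subgroup A7 :=
    { carrier := {π | ∃ s, m.sg s * m.pm π ∈ A}
      one_mem' := ⟨1, by simp [A.one_mem]⟩
      mul_mem' := by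
        rintro π ρ ⟨s, hs⟩ ⟨t, ht⟩
        exact ⟨_, m.mul_eq s t π ρ ▸ A.mul_mem hs ht⟩
      inv_mem' := by
        rintro π ⟨s, hs⟩
        refine ⟨act π⁻¹ s⁻¹, ?_⟩
        have := A.inv_mem hs
        rwa [show (m.sg s * m.pm π)⁻¹ = m.sg (act π⁻¹ s⁻¹) * m.pm π⁻¹ by
          rw [← m.conj, mul_inv_rev, map_inv, map_inv]; group] at this }
  have hBD : ∀ π ∈ B, π ∈ D := by
    rintro π ⟨s, hs⟩
    obtain ⟨t, ρ, hρ, e⟩ := hA hs
    rw [(m.eq_iff.1 e).2]; exact hρ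
  choose! σ hσ using fun π (h : π ∈ B) => (h : ∃ s, m.sg s * m.pm π ∈ A)
  have hmul : Nat.card A = Nat.card P * Nat.card B := by
    rw [← Nat.card_prod]
    symm
    refine Nat.card_eq_of_bijective (fun x : P × B =>
      (⟨m.sg x.1.1 * (m.sg (σ x.2.1) * m.pm x.2.1), A.mul_mem x.1.2 (hσ _ x.2.2)⟩ : A)) ⟨?_, ?_⟩
    · rintro ⟨a, π⟩ ⟨b, ρ⟩ e
      have e' := congrArg Subtype.val e
      simp only [← mul_assoc, ← map_mul] at e'
      obtain ⟨h1, h2⟩ := m.eq_iff.1 e'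
      obtain rfl : π = ρ := Subtype.ext h2
      obtain rfl : a = b := Subtype.ext (mul_right_cancel h1)
      rfl
    · intro x
      obtain ⟨s, π, hπ, e⟩ := hA x.2
      have hB : π ∈ B := ⟨s, e ▸ x.2⟩
      have hP : s * (σ π)⁻¹ ∈ P := by
        show m.sg (s * (σ π)⁻¹) ∈ A
        have := A.mul_mem x.2 (A.inv_mem (hσ π hB))
        rw [e] at this
        rw [map_mul, map_inv]
        convert this using 1
        group
      refine ⟨(⟨_, hP⟩, ⟨π, hB⟩), Subtype.ext ?_⟩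
      show m.sg (s * (σ π)⁻¹) * (m.sg (σ π) * m.pm π) = _
      rw [e, map_mul, map_inv]; group
  have hfix : ∀ π ∈ B, ∀ t ∈ P, ∀ i, (t : Sg) (π.1 i) = (t : Sg) i := by
    intro π hπ t ht i
    have h := hc _ ht _ (hσ π hπ)
    have h2 : m.sg t = m.sg (act π t) := by
      rw [← m.conj_sg (σ π) t π, ← h]; group
    have := congrFun (congrArg Subtype.val (m.sg_inj h2)) (π.1 i)
    rw [this, act_apply]; simp
  have hcomm : ∀ π ∈ B, ∀ ρ ∈ B, π * ρ = ρ * π := fun π hπ ρ hρ => by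
    have h := hc _ (hσ π hπ) _ (hσ ρ hρ)
    rw [m.mul_eq, m.mul_eq] at h
    exact (m.eq_iff.1 h).2
  have hBdvd : Nat.card B ∣ 8 := card_D ▸ Subgroup.card_dvd_of_le hBD
  have hB8 : Nat.card B ≠ 8 := fun h => by
    obtain ⟨k, l, i, hkl⟩ := dl_ncomm
    have e : B = D := Subgroup.eq_of_le_of_card_ge hBD (by rw [h, card_D])
    exact hkl (congrArg (fun x : A7 => x.1 i)
      (hcomm (dA k) (by rw [e]; exact dA_mem k) (dA l) (by rw [e]; exact dA_mem l)))
  have hB1 : ∀ π ∈ B, π = 1 := by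
    by_contra hne
    push Not at hne
    obtain ⟨π, hπ, hπ1⟩ := hne
    obtain ⟨k, rfl⟩ := exists_dl (hBD π hπ)
    have hk : k ≠ 0 := fun h => hπ1 (h ▸ dA_zero)
    have h16 : Nat.card P ≤ 16 :=
      (card_le P (fun s => ∀ i, s (dl k i) = s i) fun t ht => hfix _ hπ t ht).trans (fix_one k hk)
    rw [hcard] at hmul
    have h4 : 4 ≤ Nat.card B := by nlinarith
    obtain ⟨ρ, hρ⟩ : ∃ ρ : B, ρ.1 ≠ 1 ∧ ρ.1 ≠ dA k := by
      by_contra hcon
      push Not at hcon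
      have : Nat.card B ≤ Nat.card ({1, dA k} : Finset A7) :=
        Nat.card_le_card_of_injective (fun x => ⟨x.1, by
          by_cases h : x.1 = 1
          · simp [h]
          · simp [hcon x h]⟩) fun a b e => Subtype.ext (congrArg (fun y : ({1, dA k} : Finset A7) => y.1) e)
      rw [Nat.card_eq_finsetCard] at this
      have := this.trans Finset.card_le_two
      omega
    obtain ⟨l, hl⟩ := exists_dl (hBD _ ρ.2)
    have hl0 : l ≠ 0 := fun h => hρ.1 (by rw [hl, h, dA_zero])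
    have hkl : k ≠ l := fun h => hρ.2 (by rw [hl, h])
    have h8 : Nat.card P ≤ 8 :=
      (card_le P (fun s => (∀ i, s (dl k i) = s i) ∧ ∀ i, s (dl l i) = s i) fun t ht =>
        ⟨hfix _ hπ t ht, fun i => by have := hfix _ ρ.2 t ht i; rwa [hl] at this⟩).trans
        (fix_two k l hk hl0 hkl fun i =>
          congrArg (fun x : A7 => x.1 i) (hcomm (dA k) hπ (dA l) (by rw [← hl]; exact ρ.2)))
    have h8' : Nat.card B < 8 := lt_of_le_of_ne (Nat.le_of_dvd (by norm_num) hBdvd) hB8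
    nlinarith
  intro g hg
  obtain ⟨s, π, -, rfl⟩ := hA hg
  exact ⟨s, by rw [hB1 π ⟨s, hg⟩]; simp⟩

/-- The Sylow subgroup normalises only itself. -/
theorem normalizer_eq [Finite G] : Subgroup.normalizer (m.S0 : Set G) = m.S0 := by
  refine le_antisymm (fun g hg => ?_) Subgroup.le_normalizer
  have hgS : ∀ x ∈ m.S0, g * x * g⁻¹ ∈ m.S0 := fun x hx => (Subgroup.mem_normalizer_iff.1 hg x).1 hx
  let φ : Ev →* G := (MulAut.conj g).toMonoidHom.comp m.sg
  have hφ : Function.Injective φ := (MulAut.conj g).injective.comp m.sg_inj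
  have hA := m.abelian_mem φ.range (by
      rintro _ ⟨s, rfl⟩; exact hgS _ (m.sg_mem s))
    (by rintro _ ⟨s, rfl⟩ _ ⟨t, rfl⟩; rw [← map_mul, mul_comm, map_mul])
    (by rw [← card_Ev]; exact (Nat.card_congr (MonoidHom.ofInjective hφ).toEquiv).symm)
  obtain ⟨s, π, rfl⟩ := m.norm g fun s => hA _ ⟨s, rfl⟩
  refine ⟨s, π, ?_, rfl⟩
  have hD : ∀ ρ ∈ D, π * ρ * π⁻¹ ∈ D := by
    intro ρ hρ
    obtain ⟨t, τ, hτ, e⟩ := hgS _ (m.pm_mem hρ)
    have e2 : m.sg s * m.pm π * m.pm ρ * (m.sg s * m.pm π)⁻¹ =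
        m.sg (s * act (π * ρ * π⁻¹) s⁻¹) * m.pm (π * ρ * π⁻¹) := by
      rw [map_mul, ← m.conj]
      simp only [map_mul, map_inv]
      group
    rw [e2] at e
    rw [(m.eq_iff.1 e).2]; exact hτ
  have hD' : ∀ k, ∃ l, π * dA l = dA k * π := by
    intro k
    have hinj : Function.Injective (fun x : D => (⟨π * x.1 * π⁻¹, hD _ x.2⟩ : D)) := fun a b e => by
      exact Subtype.ext (by simpa using congrArg Subtype.val e)
    obtain ⟨x, hx⟩ := Finite.surjective_of_injective hinj ⟨dA k, dA_mem k⟩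
    obtain ⟨l, hl⟩ := exists_dl x.2
    have hx' : π * x.1 * π⁻¹ = dA k := congrArg Subtype.val hx
    exact ⟨l, by rw [← hx', hl]; group⟩
  have h6 : π.1 6 = 6 := only_six _ fun k => by
    obtain ⟨l, hl⟩ := hD' k
    have := congrArg (fun x : A7 => x.1 6) hl
    show dl k (π.1 6) = π.1 6
    exact this.symm.trans (congrArg π.1 (dl_spec l).2.1)
  obtain ⟨k, hk⟩ := exists_dl (hD _ (dA_mem 7))
  have hk0 : k ≠ 0 := fun h => by
    rw [h, dA_zero, mul_inv_eq_one, mul_eq_left] at hk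
    exact absurd (congrArg (fun x : A7 => x.1 0) hk) (by decide)
  have hk7 : k = 7 := only_z k hk0 fun l i => by
    obtain ⟨l', hl'⟩ := hD' l
    have hz : dA 7 * dA l' = dA l' * dA 7 := Subtype.ext (Equiv.ext fun i => z_central l' i)
    have : dA k * dA l = dA l * dA k := by
      have e : dA l = π * dA l' * π⁻¹ := by rw [hl']; group
      rw [← hk, e]
      calc π * dA 7 * π⁻¹ * (π * dA l' * π⁻¹) = π * (dA 7 * dA l') * π⁻¹ := by group
        _ = π * (dA l' * dA 7) * π⁻¹ := by rw [hz]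
        _ = _ := by group
    exact congrArg (fun x : A7 => x.1 i) this
  rw [hk7, mul_inv_eq_iff_eq_mul] at hk
  exact mem_D.2 ⟨fun i => congrArg (fun x : A7 => x.1 i) hk, h6⟩

/-- No proper non-trivial subgroup of `S0` is strongly closed. -/
theorem closed_eq (T : Subgroup G) (hT : T ≤ m.S0)
    (hcl : ∀ g : G, ∀ x ∈ T, g * x * g⁻¹ ∈ m.S0 → g * x * g⁻¹ ∈ T) : T = ⊥ ∨ T = m.S0 := by
  rcases eq_or_ne T ⊥ with h | hne
  · exact Or.inl h
  refine Or.inr (le_antisymm hT ?_)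
  obtain ⟨⟨x, hx⟩, hx'⟩ := T.ne_bot_iff_exists_ne_one.1 hne
  have hx1 : x ≠ 1 := fun e => hx' (Subtype.ext e)
  have hnorm : ∀ g ∈ m.S0, ∀ y ∈ T, g * y * g⁻¹ ∈ T := fun g hg y hy =>
    hcl g y hy (m.S0.mul_mem (m.S0.mul_mem hg (hT hy)) (m.S0.inv_mem hg))
  let W : Subgroup Ev := T.comap m.sg
  have hW : ∀ (π : A7), ∀ t ∈ W, act π t ∈ W := fun π t ht => by
    show m.sg _ ∈ T
    rw [← m.conj]
    exact hcl _ _ ht (by rw [m.conj]; exact m.sg_mem _)
  obtain ⟨t, htW, ht1⟩ : ∃ t ∈ W, t ≠ 1 := by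
    obtain ⟨s, π, hπ, rfl⟩ := hT hx
    obtain ⟨k, rfl⟩ := exists_dl hπ
    rcases eq_or_ne k 0 with rfl | hk
    · rw [dA_zero, map_one, mul_one] at hx hx1
      exact ⟨s, hx, fun h => hx1 (by rw [h, map_one])⟩
    · obtain ⟨a, b, hab, i, hi⟩ := moves k hk
      refine ⟨prE a b hab * (act (dA k) (prE a b hab))⁻¹, ?_, fun h => hi ?_⟩
      · show m.sg _ ∈ T
        have h1 := T.mul_mem (hnorm _ (m.sg_mem (prE a b hab)) _ hx) (T.inv_mem hx)
        convert h1 using 1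
        rw [map_mul, map_inv, ← m.conj_sg s _ (dA k)]
        group
      · have := congrFun (congrArg Subtype.val (mul_inv_eq_one.1 h)) (dl k i)
        rw [act_apply] at this
        simpa [dA, prE] using this
  obtain ⟨a, b, c, d, ha, hb, hcd, hne', hca, hcb, hda, hdb⟩ := gadget (t : Sg) (mem_Ev.1 t.2) (by
    by_contra h
    push Not at h
    exact ht1 (Subtype.ext (funext h)))
  have hab : a ≠ b := fun h => by rw [h, hb] at ha; exact absurd ha (by decide)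
  let π0 : A7 := ⟨swap a b * swap c d, by
    rw [Perm.mem_alternatingGroup, map_mul, Perm.sign_swap hab, Perm.sign_swap hne']; decide⟩
  have hpr : prE a b hab ∈ W := by
    have h := W.mul_mem htW (hW π0 t htW)
    convert h using 1
    refine Subtype.ext (funext fun i => ?_)
    show pr a b i = (t : Sg) i * (t : Sg) (π0.1⁻¹ i)
    have e : π0.1⁻¹ i = swap c d (swap a b i) := by
      rw [Perm.inv_def, Equiv.symm_apply_eq]
      simp [π0]
    rw [e, pr]
    by_cases h1 : i = a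
    · subst h1
      rw [if_pos (Or.inl rfl), swap_apply_left, swap_apply_of_ne_of_ne hcb.symm hdb.symm, ha, hb]; rfl
    by_cases h2 : i = b
    · subst h2
      rw [if_pos (Or.inr rfl), swap_apply_right, swap_apply_of_ne_of_ne hca.symm hda.symm, ha, hb]; rfl
    rw [if_neg (not_or.2 ⟨h1, h2⟩), swap_apply_of_ne_of_ne h1 h2]
    have : (t : Sg) (swap c d i) = (t : Sg) i := by
      by_cases h3 : i = c
      · subst h3; rw [swap_apply_left, hcd]
      by_cases h4 : i = d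
      · subst h4; rw [swap_apply_right, hcd]
      rw [swap_apply_of_ne_of_ne h3 h4]
    rw [this, Int.units_mul_self]
  have hall : ∀ s : Ev, s ∈ W := by
    intro s
    have hpair : ∀ i : Fin 7, i ≠ 0 → ∀ hi : pr i 0 ∈ Ev, (⟨pr i 0, hi⟩ : Ev) ∈ W := by
      intro i hi he
      obtain ⟨π, h1, h2⟩ := exists_pair_map hab hi
      convert hW π _ hpr using 1
      refine Subtype.ext (funext fun j => ?_)
      show pr i 0 j = pr a b (π.1⁻¹ j)
      simp only [pr, ← h1, ← h2, Perm.inv_def, Equiv.symm_apply_eq]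
    let W' : Subgroup Sg := W.map Ev.subtype
    have : (s : Sg) ∈ W' := by
      rw [pr_gen (s : Sg) (mem_Ev.1 s.2)]
      refine Subgroup.prod_mem _ fun i hi => ?_
      have hi0 := (Finset.mem_filter.1 hi).2.2
      exact ⟨_, hpair i hi0 (pr_mem i 0 hi0), rfl⟩
    obtain ⟨s', hs', e⟩ := this
    rwa [← Subtype.ext e]
  obtain ⟨g, hg⟩ := m.fuse
  have hz : m.pm zA ∈ T := by
    rw [← hg]
    exact hcl g _ (hall _) (by rw [hg]; exact m.pm_mem (dA_mem 7))
  let P : Subgroup A7 := T.comap m.pm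
  have hgen : ∀ (σ : A7) (k : Fin 8), (∀ i, σ.1 (zp i) = dl k (σ.1 i)) → dA k ∈ P := by
    intro σ k hk
    have e : σ * zA * σ⁻¹ = dA k := by
      rw [mul_inv_eq_iff_eq_mul]
      exact Subtype.ext (Equiv.ext hk)
    show m.pm (dA k) ∈ T
    have e2 : m.pm σ * m.pm zA * (m.pm σ)⁻¹ = m.pm (dA k) := by
      rw [← e, map_mul, map_mul, map_inv]
    rw [← e2]
    exact hcl _ _ hz (by rw [e2]; exact m.pm_mem (dA_mem k))
  have hu : dA 1 ∈ P := hgen ⟨swap 1 4 * swap 3 5, by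
    rw [Perm.mem_alternatingGroup]; decide⟩ 1 conj_up
  have hw : dA 2 ∈ P := hgen ⟨swap 1 2 * swap 4 5, by
    rw [Perm.mem_alternatingGroup]; decide⟩ 2 conj_wp
  rintro y ⟨s, π, hπ, rfl⟩
  obtain ⟨k, rfl⟩ := exists_dl hπ
  exact T.mul_mem (hall s) (dA_of_gens P hu hw k)

end Mod

end CfsgLib.O7Sylow
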