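import Mathlib
import Cfsg.Prelude.Def_Classical
import Cfsg.Agent.Lib.O7Sylow.Mod
import Cfsg.Agent.Lib.OmegaSylowTwo.Transfer
import Cfsg.Agent.Lib.StdQuadForms

/-! `2^6 : A_7` inside `Ω_7(q)` for `q ≡ ±3 (mod 8)`. -/

set_option autoImplicit false

namespace CfsgLib.O7Sylow

open Equiv QuadraticMap CfsgLib.WittExtension CfsgLib.SpinorMatrix CfsgLib.FiniteForms
open scoped commutatorElement

variable (F : Type*) [Field F] [Fintype F]

/-- The linear maps preserving the sum of seven squares. -/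
def O7 : Subgroup ((Fin 7 → F) ≃ₗ[F] (Fin 7 → F)) where
  carrier := {g | ∀ v, ∑ i, (g v i) ^ 2 = ∑ i, (v i) ^ 2}
  one_mem' v := rfl
  mul_mem' {a b} ha hb v := by
    show ∑ i, (a (b v) i) ^ 2 = _
    rw [ha, hb]
  inv_mem' {a} ha v := by
    show ∑ i, (a.symm v i) ^ 2 = _
    rw [← ha (a.symm v), LinearEquiv.apply_symm_apply]

theorem exists_iso (h2 : (2 : F) ≠ 0) :
    Nonempty (O7 F ≃* Cfsg.isometryGroup F (Cfsg.quadFormOdd 3 F)) := by
  classical
  have hQ := CfsgLib.StdQuadForms.Qo_nondeg (F := F) h2 3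
  let c : F := (polarMat ⇑(CfsgLib.StdQuadForms.Qo (F := F) 3)).det * 2 ^ 7
  have hc : c ≠ 0 := mul_ne_zero (CfsgLib.FiniteForms.polarMat_det_ne_zero hQ) (pow_ne_zero _ h2)
  obtain ⟨L, hL⟩ := CfsgLib.OmegaSylowTwo.exists_isometry (k := 0) (r := 7) h2 _ hQ
    (Fintype.equivOfCardEq (by simp)) (fun _ => c) (fun _ => hc) (by
      refine ⟨(polarMat ⇑(CfsgLib.StdQuadForms.Qo (F := F) 3)).det ^ 4 * 2 ^ 28, ?_⟩
      simp [c, Finset.prod_const]
      ring)
  let e : Fin 7 ≃ CfsgLib.OmegaSylowTwo.Idx 0 7 := (Equiv.emptySum (Fin 0 × Fin 2) (Fin 7)).symm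
  let L7 := L.trans (LinearEquiv.funCongrLeft F F e)
  have h7 : ∀ v, CfsgLib.StdQuadForms.Qo 3 v = c * ∑ i, (L7 v i) ^ 2 := by
    intro v
    rw [← hL, CfsgLib.OmegaSylowTwo.Qd_apply, Finset.mul_sum]
    simp only [Finset.univ_eq_empty, Finset.sum_empty, zero_add, _root_.sq]
    refine Finset.sum_congr rfl fun j _ => ?_
    simp [L7, e, LinearEquiv.funCongrLeft_apply, LinearMap.funLeft_apply]
  have hf : ⇑(CfsgLib.StdQuadForms.Qo (F := F) 3) = Cfsg.quadFormOdd 3 F :=
    funext (CfsgLib.StdQuadForms.Qo_apply 3)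
  rw [← hf]
  refine ⟨(MulEquiv.trans ?_ (isoEquiv (CfsgLib.StdQuadForms.Qo (F := F) 3)).symm)⟩
  exact
    { toFun := fun g => ⟨L7.trans (g.1.trans L7.symm), fun v => by
        rw [h7, h7]; congr 1
        simp only [LinearEquiv.trans_apply, LinearEquiv.apply_symm_apply]
        exact g.2 _⟩
      invFun := fun g => ⟨L7.symm.trans (g.1.trans L7), fun v => by
        have h := g.2 (L7.symm v)
        rw [h7, h7, LinearEquiv.apply_symm_apply] at h
        exact mul_left_cancel₀ hc h⟩
      left_inv := fun g => Subtype.ext (LinearEquiv.ext fun v => by simp)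
      right_inv := fun g => Subtype.ext (LinearEquiv.ext fun v => by simp)
      map_mul' := fun g g' => Subtype.ext (LinearEquiv.ext fun v => by
        show L7.symm (g.1 (g'.1 (L7 v))) = L7.symm (g.1 (L7 (L7.symm (g'.1 (L7 v)))))
        rw [L7.apply_symm_apply]) }

/-- The diagonal signs. -/
def sg0 : Sg →* O7 F where
  toFun s := ⟨
    { toFun := fun v i => ((s i : ℤ) : F) * v i
      invFun := fun v i => ((s i : ℤ) : F) * v i
      left_inv := fun v => funext fun i => by
        rcases Int.units_eq_one_or (s i) with h | h <;> simp [h]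
      right_inv := fun v => funext fun i => by
        rcases Int.units_eq_one_or (s i) with h | h <;> simp [h]
      map_add' := fun v w => funext fun i => by simp [mul_add]
      map_smul' := fun a v => funext fun i => by simp; ring },
    fun v => Finset.sum_congr rfl fun i _ => by
      show (((s i : ℤ) : F) * v i) ^ 2 = v i ^ 2
      rcases Int.units_eq_one_or (s i) with h | h <;> simp [h]⟩
  map_one' := Subtype.ext (LinearEquiv.ext fun v => funext fun i => by
    show (((1 : Sg) i : ℤ) : F) * v i = v i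
    simp)
  map_mul' s t := Subtype.ext (LinearEquiv.ext fun v => funext fun i => by
    show (((s * t) i : ℤ) : F) * v i = ((s i : ℤ) : F) * (((t i : ℤ) : F) * v i)
    simp [mul_assoc])

/-- The permutations of the coordinates. -/
def pm0 : Perm (Fin 7) →* O7 F where
  toFun π := ⟨LinearEquiv.funCongrLeft F F π.symm, fun v => by
    show ∑ i, (v (π.symm i)) ^ 2 = _
    exact Equiv.sum_comp π.symm (fun i => v i ^ 2)⟩
  map_one' := Subtype.ext (LinearEquiv.ext fun v => rfl)
  map_mul' π ρ := Subtype.ext (LinearEquiv.ext fun v => rfl)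

theorem sg0_apply (s : Sg) (v : Fin 7 → F) (i : Fin 7) :
    (sg0 F s).1 v i = ((s i : ℤ) : F) * v i := rfl

theorem pm0_apply (π : Perm (Fin 7)) (v : Fin 7 → F) (i : Fin 7) : (pm0 F π).1 v i = v (π⁻¹ i) := rfl

theorem conj0 (π : Perm (Fin 7)) (s : Sg) :
    pm0 F π * sg0 F s * (pm0 F π)⁻¹ = sg0 F (fun i => s (π⁻¹ i)) := by
  rw [mul_inv_eq_iff_eq_mul]
  exact Subtype.ext (LinearEquiv.ext fun v => funext fun i => rfl)

theorem unit_cast (h2 : (2 : F) ≠ 0) {a b : ℤˣ} (h : ((a : ℤ) : F) = ((b : ℤ) : F)) : a = b := by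
  rcases Int.units_eq_one_or a with ha | ha <;> rcases Int.units_eq_one_or b with hb | hb <;>
    subst ha hb <;> simp at h ⊢ <;>
    exact h2 (by first | linear_combination h | linear_combination -h)

theorem inj0 (h2 : (2 : F) ≠ 0) (s t : Sg) (π ρ : Perm (Fin 7))
    (h : sg0 F s * pm0 F π = sg0 F t * pm0 F ρ) : s = t ∧ π = ρ := by
  have hv : ∀ (v : Fin 7 → F) i, ((s i : ℤ) : F) * v (π⁻¹ i) = ((t i : ℤ) : F) * v (ρ⁻¹ i) :=
    fun v i => congrArg (fun g : O7 F => g.1 v i) h
  have hπ : π⁻¹ = ρ⁻¹ := by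
    refine Equiv.ext fun i => ?_
    by_contra hne
    have := hv (Pi.single (π⁻¹ i) 1) i
    rw [Pi.single_eq_same, Pi.single_eq_of_ne (Ne.symm hne)] at this
    rcases Int.units_eq_one_or (s i) with h' | h' <;> simp [h'] at this
  refine ⟨funext fun i => unit_cast F h2 ?_, inv_injective hπ⟩
  have := hv (fun _ => 1) i
  simpa using this

theorem norm0 (h2 : (2 : F) ≠ 0) (g : O7 F)
    (h : ∀ s : Sg, ∏ i, s i = 1 → ∃ t : Sg, g * sg0 F s * g⁻¹ = sg0 F t ∧ ∏ i, t i = 1) :
    ∃ s π, g = sg0 F s * pm0 F π := by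
  classical
  choose! τ hτ using h
  have hsur : ∀ t : Sg, ∏ i, t i = 1 → ∃ s : Sg, (∏ i, s i = 1) ∧ τ s = t := by
    intro t ht
    have hinj : Function.Injective (fun s : Ev => (⟨τ s.1, (hτ s.1 (mem_Ev.1 s.2)).2⟩ : Ev)) := by
      intro a b e
      have h1 := (hτ a.1 (mem_Ev.1 a.2)).1
      rw [Subtype.mk.inj e, ← (hτ b.1 (mem_Ev.1 b.2)).1] at h1
      have h3 := mul_left_cancel (mul_right_cancel h1)
      exact Subtype.ext ((inj0 F h2 a.1 b.1 1 1 (by rw [h3])).1)
    obtain ⟨s, hs⟩ := Finite.surjective_of_injective hinj ⟨t, mem_Ev.2 ht⟩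
    exact ⟨s.1, mem_Ev.1 s.2, congrArg Subtype.val hs⟩
  have hcol : ∀ i, ∃ j, ∃ x : ℤˣ, g.1 (Pi.single i 1) = Pi.single j (((x : ℤ) : F)) := by
    intro i
    set w := g.1 (Pi.single i 1) with hw
    have hn : ∑ k, w k ^ 2 = 1 := by
      rw [hw, g.2]
      simp [Pi.single_apply]
    obtain ⟨j, hj⟩ : ∃ j, w j ≠ 0 := by
      by_contra hcon
      push Not at hcon
      simp [hcon] at hn
    have hone : ∀ k, k ≠ j → w k = 0 := by
      intro k hkj
      by_contra hk
      obtain ⟨l, l', -, hlj, hlk, -, -⟩ := two_others j k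
      obtain ⟨s, hs, hst⟩ := hsur (pr j l) (mem_Ev.1 (pr_mem j l hlj.symm))
      have e : (g * sg0 F s).1 (Pi.single i 1) = (sg0 F (pr j l) * g).1 (Pi.single i 1) := by
        rw [← hst, ← (hτ s hs).1]; group
      have e1 : (sg0 F s).1 (Pi.single i 1) = ((s i : ℤ) : F) • Pi.single i 1 := by
        funext k
        rw [sg0_apply]
        rcases eq_or_ne k i with h | h
        · subst h; simp
        · simp [Pi.single_eq_of_ne h]
      change g.1 ((sg0 F s).1 (Pi.single i 1)) = (sg0 F (pr j l)).1 w at e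
      rw [e1, map_smul] at e
      have ej := congrFun e j
      have ek := congrFun e k
      rw [Pi.smul_apply, smul_eq_mul, sg0_apply, ← hw] at ej ek
      have p1 := mul_right_cancel₀ hj ej
      have p2 := mul_right_cancel₀ hk ek
      have := unit_cast F h2 (p1.symm.trans p2)
      rw [pr, pr, if_pos (Or.inl rfl), if_neg (not_or.2 ⟨hkj, hlk.symm⟩)] at this
      exact absurd this (by decide)
    have hw' : w = Pi.single j (w j) := by
      funext k
      rcases eq_or_ne k j with h | h
      · subst h; simp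
      · rw [Pi.single_eq_of_ne h, hone k h]
    rw [hw'] at hn
    have hsq : w j * w j = 1 := by
      rw [← hn, ← hw', Finset.sum_eq_single j (fun k _ hk => by rw [hone k hk]; simp) (by simp), _root_.sq]
    rcases mul_self_eq_one_iff.1 hsq with h | h
    · exact ⟨j, 1, by rw [hw', h]; simp⟩
    · exact ⟨j, -1, by rw [hw', h]; simp⟩
  choose σ x hx using hcol
  have hσ : Function.Injective σ := by
    intro i k hik
    by_contra hne
    have e : g.1 (Pi.single i ((x k : ℤ) : F)) = g.1 (Pi.single k ((x i : ℤ) : F)) := by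
      have p : ∀ (a : Fin 7) (c : F), (Pi.single a c : Fin 7 → F) = c • Pi.single a 1 := fun a c => by
        rw [← Pi.single_smul', smul_eq_mul, mul_one]
      rw [p i, p k, map_smul, map_smul, hx, hx, hik]
      funext a
      simp [Pi.single_apply]
      split_ifs <;> ring
    have := congrFun (g.1.injective e) i
    rw [Pi.single_eq_same, Pi.single_eq_of_ne hne] at this
    rcases Int.units_eq_one_or (x k) with h' | h' <;> simp [h'] at this
  let π : Perm (Fin 7) := Equiv.ofBijective σ (Finite.injective_iff_bijective.1 hσ)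
  refine ⟨fun j => x (π⁻¹ j), π, Subtype.ext (LinearEquiv.toLinearMap_injective
    ((Pi.basisFun F (Fin 7)).ext fun i => ?_))⟩
  rw [Pi.basisFun_apply]
  show g.1 (Pi.single i 1) = (sg0 F _).1 ((pm0 F π).1 (Pi.single i 1))
  rw [hx]
  funext j
  rw [sg0_apply, pm0_apply]
  rcases eq_or_ne j (π i) with h | h
  · subst h
    simp [show π i = σ i from rfl]
    rw [show π.symm (σ i) = i from π.symm_apply_apply i]
    simp
  · have h' : π⁻¹ j ≠ i := fun e => h (by rw [← e]; exact (π.apply_symm_apply j).symm)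
    rw [Pi.single_eq_of_ne h', mul_zero, Pi.single_eq_of_ne (by exact h)]

set_option maxHeartbeats 2000000 in
theorem fuse0 (h2 : (2 : F) ≠ 0) :
    ∃ g : O7 F, g * sg0 F (pr 0 2) * g⁻¹ = pm0 F zp := by
  classical
  obtain ⟨a, b, hab⟩ : ∃ a b : F, 2 * (a ^ 2 + b ^ 2) = 1 := by
    obtain ⟨a, b, h⟩ := FiniteField.exists_root_sum_quadratic
      (f := Polynomial.X ^ 2) (g := Polynomial.X ^ 2 - Polynomial.C ((2 : F)⁻¹))
      (Polynomial.degree_X_pow 2) (Polynomial.degree_X_pow_sub_C (by norm_num) _)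
      (FiniteField.odd_card_of_char_ne_two fun h => h2 (by
        haveI := ringChar.of_eq h; exact CharTwo.two_eq_zero))
    refine ⟨a, b, ?_⟩
    simp only [Polynomial.eval_pow, Polynomial.eval_X, Polynomial.eval_sub, Polynomial.eval_C] at h
    have h' : (2 : F) * 2⁻¹ = 1 := mul_inv_cancel₀ h2
    linear_combination 2 * h + h'
  let f : (Fin 7 → F) → (Fin 7 → F) := fun v =>
    ![a * v 0 - b * v 2 + (a * v 1 - b * v 3), b * v 0 + a * v 2 + (b * v 1 + a * v 3),
      -(a * v 0 - b * v 2) + (a * v 1 - b * v 3), -(b * v 0 + a * v 2) + (b * v 1 + a * v 3),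
      v 4, v 5, v 6]
  let f' : (Fin 7 → F) → (Fin 7 → F) := fun v =>
    ![a * v 0 + b * v 1 - a * v 2 - b * v 3, a * v 0 + b * v 1 + a * v 2 + b * v 3,
      -(b * v 0) + a * v 1 + b * v 2 - a * v 3, -(b * v 0) + a * v 1 - b * v 2 + a * v 3,
      v 4, v 5, v 6]
  let R : (Fin 7 → F) ≃ₗ[F] (Fin 7 → F) :=
    { toFun := f
      invFun := f'
      map_add' := fun v w => by funext i; fin_cases i <;> simp [f] <;> ring
      map_smul' := fun c v => by funext i; fin_cases i <;> simp [f] <;> ring
      left_inv := fun v => by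
        funext i
        fin_cases i
        · simp [f, f']; linear_combination (v 0) * hab
        · simp [f, f']; linear_combination (v 1) * hab
        · simp [f, f']; linear_combination (v 2) * hab
        · simp [f, f']; linear_combination (v 3) * hab
        all_goals simp [f, f']
      right_inv := fun v => by
        funext i
        fin_cases i
        · simp [f, f']; linear_combination (v 0) * hab
        · simp [f, f']; linear_combination (v 1) * hab
        · simp [f, f']; linear_combination (v 2) * hab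
        · simp [f, f']; linear_combination (v 3) * hab
        all_goals simp [f, f'] }
  refine ⟨⟨R, fun v => ?_⟩, ?_⟩
  · show ∑ i, (f v i) ^ 2 = _
    simp [f, Fin.sum_univ_seven]
    linear_combination (v 0 ^ 2 + v 1 ^ 2 + v 2 ^ 2 + v 3 ^ 2) * hab
  · rw [mul_inv_eq_iff_eq_mul]
    refine Subtype.ext (LinearEquiv.ext fun v => funext fun i => ?_)
    show f ((sg0 F (pr 0 2)).1 v) i = f v (zp⁻¹ i)
    fin_cases i <;> simp [f, sg0_apply, pr, zp, Equiv.swap_apply_def] <;> ring

theorem pr_comm : ∀ i : Fin 7, i ≠ 0 →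
    pr i 0 = (fun k => if k = i then -1 else 1) *
      (fun k => ((fun k => if k = i then (-1 : ℤˣ) else 1) : Sg)⁻¹ ((swap i 0)⁻¹ k)) := by decide +kernel

theorem sg0_mem (s : Sg) (hs : ∏ i, s i = 1) : sg0 F s ∈ commutator (O7 F) := by
  rw [pr_gen s hs]
  refine Finset.prod_induction _ (fun x => sg0 F x ∈ commutator (O7 F)) (fun a b ha hb => ?_) ?_
    fun i hi => ?_
  · rw [map_mul]; exact mul_mem ha hb
  · rw [map_one]; exact one_mem _
  · rw [pr_comm i (Finset.mem_filter.1 hi).2.2, map_mul, ← conj0, map_inv, commutator_def]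
    convert Subgroup.commutator_mem_commutator (Subgroup.mem_top (sg0 F fun k => if k = i then -1 else 1))
      (Subgroup.mem_top (pm0 F (swap i 0))) using 1
    rw [commutatorElement_def]; group

theorem pm0_mem (π : Perm (Fin 7)) (hπ : Perm.sign π = 1) : pm0 F π ∈ commutator (O7 F) := by
  have h : π ∈ commutator (Perm (Fin 7)) := by
    rw [alternatingGroup.commutator_perm_eq (by simp)]; exact hπ
  have h2 : (commutator (Perm (Fin 7))).map (pm0 F) ≤ commutator (O7 F) := by
    rw [commutator_def, commutator_def, Subgroup.map_commutator]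
    exact Subgroup.commutator_mono le_top le_top
  exact h2 ⟨π, h, rfl⟩

end CfsgLib.O7Sylow
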