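import Mathlib
import Cfsg.Prelude.Def_Classical
import Cfsg.Agent.Lib.O7Sylow.Model
import Cfsg.Agent.Lib.OrthOrderBase

/-! The Sylow 2-subgroup of `Ω_7(q)`, `q ≡ ±3 (mod 8)`. -/

set_option autoImplicit false

namespace CfsgLib.O7Sylow

open Equiv CfsgLib.SpinorMatrix

variable (F : Type*) [Field F] [Fintype F]

theorem two_ne (hq : Fintype.card F % 8 = 3 ∨ Fintype.card F % 8 = 5) : (2 : F) ≠ 0 := fun h => by
  haveI : CharP F 2 := CharTwo.of_one_ne_zero_of_two_eq_zero one_ne_zero h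
  have := FiniteField.even_card_of_char_two (ringChar.eq F 2)
  omega

theorem arith {q : ℕ} (hq : q % 8 = 3 ∨ q % 8 = 5) :
    ∃ a : ℕ, Odd a ∧ 2 * q ^ (3 ^ 2) * ∏ i ∈ Finset.range 3, (q ^ (2 * (i + 1)) - 1) = 4 * 2 ^ 9 * a := by
  have hqo : Odd q := Nat.odd_iff.2 (by omega)
  obtain ⟨u, hu⟩ : ∃ u, q ^ 2 = 16 * u + 9 := by
    refine ⟨q ^ 2 / 16, ?_⟩
    have h : q ^ 2 % 16 = 9 := by
      rw [Nat.pow_mod]
      have : q % 16 = 3 ∨ q % 16 = 5 ∨ q % 16 = 11 ∨ q % 16 = 13 := by omega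
      rcases this with h | h | h | h <;> rw [h]
    omega
  have h1 : q ^ 2 - 1 = 8 * (2 * u + 1) := by omega
  have h2 : q ^ 4 - 1 = 16 * ((2 * u + 1) * (8 * u + 5)) := by
    have : q ^ 4 = (q ^ 2) ^ 2 := by ring
    rw [this, hu]
    apply Nat.sub_eq_of_eq_add
    ring
  have h3 : q ^ 6 - 1 = 8 * ((2 * u + 1) * ((16 * u + 9) ^ 2 + (16 * u + 10))) := by
    have : q ^ 6 = (q ^ 2) ^ 3 := by ring
    rw [this, hu]
    apply Nat.sub_eq_of_eq_add
    ring
  refine ⟨q ^ 9 * ((2 * u + 1) * ((2 * u + 1) * (8 * u + 5)) *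
    ((2 * u + 1) * ((16 * u + 9) ^ 2 + (16 * u + 10)))), ?_, ?_⟩
  · simp only [Nat.odd_mul, hqo.pow, true_and]
    simp [Nat.odd_iff, Nat.add_mod, Nat.mul_mod, Nat.pow_mod]
  · simp only [Finset.prod_range_succ, Finset.prod_range_zero]
    norm_num
    rw [h1, h2, h3]
    ring

/-- The commutator subgroup. -/
abbrev G7 : Type _ := ↥(commutator (O7 F))

theorem card_G7 (hq : Fintype.card F % 8 = 3 ∨ Fintype.card F % 8 = 5) :
    (commutator (O7 F)).index = 4 ∧ ∃ a, Odd a ∧ Nat.card (G7 F) = 2 ^ 9 * a := by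
  classical
  have h2 := two_ne F hq
  obtain ⟨Ψ⟩ := exists_iso F h2
  have hidx : (commutator (O7 F)).index = 4 := by
    rw [comap_commutator Ψ, Subgroup.index_comap_of_surjective _ Ψ.surjective]
    have hf : ⇑(CfsgLib.StdQuadForms.Qo (F := F) 3) = Cfsg.quadFormOdd 3 F :=
      funext (CfsgLib.StdQuadForms.Qo_apply 3)
    have h := omega_index (CfsgLib.StdQuadForms.Qo (F := F) 3) h2 (by simp)
      (CfsgLib.StdQuadForms.Qo_nondeg h2 3)
    rw [hf] at h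
    exact h
  refine ⟨hidx, ?_⟩
  obtain ⟨a, ha, he⟩ := arith hq
  refine ⟨a, ha, ?_⟩
  have h := Subgroup.card_mul_index (commutator (O7 F))
  rw [hidx, Nat.card_congr Ψ.toEquiv,
    CfsgLib.OrthOrder.card_O_odd (Nat.odd_iff.2 (by omega)) 3, he] at h
  show Nat.card (commutator (O7 F)) = _
  linarith

/-- The two parities. -/
def par (p : Sg × Perm (Fin 7)) : ℤˣ × ℤˣ := (∏ i, p.1 i, Perm.sign p.2)

theorem par_eq_one (hq : Fintype.card F % 8 = 3 ∨ Fintype.card F % 8 = 5) (s : Sg) (π : Perm (Fin 7))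
    (h : sg0 F s * pm0 F π ∈ commutator (O7 F)) : (∏ i, s i) = 1 ∧ Perm.sign π = 1 := by
  classical
  have h2 := two_ne F hq
  by_contra hne
  obtain ⟨-, a, ha, hG⟩ := card_G7 F hq
  have hmul : ∀ (s t : Sg) (π ρ : Perm (Fin 7)), sg0 F s * pm0 F π * (sg0 F t * pm0 F ρ) =
      sg0 F (s * fun i => t (π⁻¹ i)) * pm0 F (π * ρ) := fun s t π ρ => by
    rw [map_mul, map_mul, ← conj0]; group
  let K : Subgroup (G7 F) :=
    { carrier := {g | ∃ p : Sg × Perm (Fin 7), g.1 = sg0 F p.1 * pm0 F p.2}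
      one_mem' := ⟨(1, 1), by simp⟩
      mul_mem' := by
        rintro x y ⟨p, hp⟩ ⟨r, hr⟩
        exact ⟨(_, _), by rw [Subgroup.coe_mul, hp, hr, hmul]⟩
      inv_mem' := by
        rintro x ⟨p, hp⟩
        refine ⟨(fun i => p.1⁻¹ (p.2 i), p.2⁻¹), ?_⟩
        rw [Subgroup.coe_inv, hp, inv_eq_iff_mul_eq_one, hmul,
          show (p.1 * fun i => p.1⁻¹ (p.2 (p.2⁻¹ i))) = 1 from funext fun i => by simp,
          mul_inv_cancel, map_one, map_one, one_mul] }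
  choose! d hd using fun (g : G7 F) (hg : g ∈ K) => (hg : ∃ p : Sg × Perm (Fin 7), g.1 = sg0 F p.1 * pm0 F p.2)
  let ρ : K →* ℤˣ × ℤˣ := MonoidHom.mk' (fun g => par (d g.1)) fun x y => by
    have e := hd _ (x * y).2
    rw [show (((x * y : K) : G7 F) : O7 F) = x.1.1 * y.1.1 from rfl, hd _ x.2, hd _ y.2, hmul] at e
    obtain ⟨e1, e2⟩ := inj0 F h2 _ _ _ _ e
    show par (d (x * y : K).1) = par (d x.1) * par (d y.1)
    unfold par
    rw [← e1, ← e2, map_mul]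
    refine Prod.ext ?_ rfl
    show ∏ i, (d x.1).1 i * (d y.1).1 ((d x.1).2⁻¹ i) = _
    rw [Finset.prod_mul_distrib, Equiv.prod_comp ((d x.1).2⁻¹ : Perm (Fin 7)) (d y.1).1]
    rfl
  let g : K := ⟨⟨_, h⟩, (s, π), rfl⟩
  have hρ : ∀ (x : K) (t : Sg) (τ : Perm (Fin 7)), x.1.1 = sg0 F t * pm0 F τ →
      ρ x = (∏ i, t i, Perm.sign τ) := by
    intro x t τ hx
    have e := hd _ x.2
    rw [hx] at e
    obtain ⟨e1, e2⟩ := inj0 F h2 _ _ _ _ e
    show par (d x.1) = _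
    rw [par, ← e1, ← e2]
  have hg1 : ρ g ≠ 1 := fun e => by
    rw [hρ g s π rfl] at e
    exact hne ⟨congrArg Prod.fst e, congrArg Prod.snd e⟩
  have hr : 2 ∣ Nat.card ρ.range := by
    haveI : Fact (Nat.Prime 2) := ⟨Nat.prime_two⟩
    have ho : orderOf (⟨ρ g, g, rfl⟩ : ρ.range) = 2 := orderOf_eq_prime
      (Subtype.ext (by
        show (ρ g) ^ 2 = 1
        exact Prod.ext (Int.units_sq _) (Int.units_sq _)))
      fun e => hg1 (congrArg Subtype.val e)
    exact ho ▸ orderOf_dvd_natCard _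
  have hker : 2 ^ 9 ∣ Nat.card ρ.ker := by
    have hm : ∀ p : Ev × A7, sg0 F p.1.1 * pm0 F p.2.1 ∈ commutator (O7 F) := fun p =>
      mul_mem (sg0_mem F _ (mem_Ev.1 p.1.2)) (pm0_mem F _ p.2.2)
    have hb := Nat.card_eq_of_bijective
      (fun p : Ev × A7 => (⟨⟨⟨_, hm p⟩, (p.1.1, p.2.1), rfl⟩, by
        rw [MonoidHom.mem_ker, hρ _ p.1.1 p.2.1 rfl, mem_Ev.1 p.1.2, Perm.mem_alternatingGroup.1 p.2.2]
        rfl⟩ : ρ.ker)) ⟨fun p r e => by
        have e' : sg0 F p.1.1 * pm0 F p.2.1 = sg0 F r.1.1 * pm0 F r.2.1 :=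
          congrArg (fun x : ρ.ker => x.1.1.1) e
        obtain ⟨e1, e2⟩ := inj0 F h2 _ _ _ _ e'
        exact Prod.ext (Subtype.ext e1) (Subtype.ext e2), fun x => by
        have hx := hd _ x.1.2
        have he := x.2
        rw [MonoidHom.mem_ker, hρ _ _ _ hx] at he
        exact ⟨(⟨_, mem_Ev.2 (congrArg Prod.fst he)⟩, ⟨_, congrArg Prod.snd he⟩),
          Subtype.ext (Subtype.ext (Subtype.ext hx.symm))⟩⟩
    rw [← hb, Nat.card_prod, card_Ev, card_A7]
    exact ⟨315, by norm_num⟩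
  have h10 : 2 ^ 10 ∣ Nat.card (G7 F) := by
    refine dvd_trans ?_ (Subgroup.card_subgroup_dvd_card K)
    rw [← Subgroup.card_mul_index ρ.ker, Subgroup.index_ker, pow_succ]
    exact Nat.mul_dvd_mul hker hr
  rw [hG, pow_succ, Nat.mul_dvd_mul_iff_left (by norm_num)] at h10
  exact Nat.not_even_iff_odd.2 ha (even_iff_two_dvd.2 h10)

/-- The last sign change. -/
def e6 : Sg := fun k => if k = 6 then -1 else 1

theorem reps : ∀ a b : Bool, ∀ i : Fin 7,
    ((if a then e6 else 1) : Sg) (((if b then swap 4 5 else 1) : Perm (Fin 7))⁻¹ i) =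
      ((if a then e6 else 1) : Sg) i ∧
    pr 0 2 (((if b then swap 4 5 else 1) : Perm (Fin 7))⁻¹ i) = pr 0 2 i := by decide +kernel

theorem reps_par : ∀ a b a' b' : Bool,
    (∏ i, ((((if a then e6 else 1) : Sg))⁻¹ * ((if a' then e6 else 1) : Sg)) i) = 1 →
    Perm.sign ((((if b then swap 4 5 else 1) : Perm (Fin 7)))⁻¹ *
      ((if b' then swap 4 5 else 1) : Perm (Fin 7))) = 1 → (a, b) = (a', b') := by decide +kernel

/-- The data inside `Ω_7(q)`. -/
theorem exists_mod (hq : Fintype.card F % 8 = 3 ∨ Fintype.card F % 8 = 5) : Nonempty (Mod (G7 F)) := by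
  classical
  have h2 := two_ne F hq
  let sgG : Ev →* G7 F := ((sg0 F).comp Ev.subtype).codRestrict _ fun s => sg0_mem F _ (mem_Ev.1 s.2)
  let pmG : A7 →* G7 F := ((pm0 F).comp (alternatingGroup (Fin 7)).subtype).codRestrict _ fun π =>
    pm0_mem F _ π.2
  refine ⟨⟨sgG, pmG, fun π s => Subtype.ext (conj0 F π.1 s.1), fun s π h => ?_, fun g hg => ?_, ?_⟩⟩
  · have h' : sg0 F s.1 * pm0 F π.1 = sg0 F 1 * pm0 F 1 := by
      rw [map_one, map_one, one_mul]; exact congrArg Subtype.val h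
    obtain ⟨e1, e2⟩ := inj0 F h2 _ _ _ _ h'
    exact ⟨Subtype.ext e1, Subtype.ext e2⟩
  · obtain ⟨s, π, e⟩ := norm0 F h2 g.1 fun s hs => by
      obtain ⟨t, ht⟩ := hg ⟨s, mem_Ev.2 hs⟩
      exact ⟨t.1, congrArg Subtype.val ht, mem_Ev.1 t.2⟩
    obtain ⟨hs, hπ⟩ := par_eq_one F hq s π (e ▸ g.2)
    exact ⟨⟨s, mem_Ev.2 hs⟩, ⟨π, hπ⟩, Subtype.ext e⟩
  · let S : Bool → Sg := fun a => if a then e6 else 1
    let P : Bool → Perm (Fin 7) := fun b => if b then swap 4 5 else 1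
    let r : Bool × Bool → O7 F := fun x => sg0 F (S x.1) * pm0 F (P x.2)
    have hinv : ∀ a b, (pm0 F (P b))⁻¹ * sg0 F (S a) * pm0 F (P b) = sg0 F (S a) := fun a b => by
      have h : pm0 F (P b) * sg0 F (S a) * (pm0 F (P b))⁻¹ = sg0 F (S a) := by
        rw [conj0]; exact congrArg _ (funext fun i => (reps a b i).1)
      conv_lhs => rw [← h]
      group
    have hf : Function.Injective fun x => (QuotientGroup.mk (r x) : O7 F ⧸ commutator (O7 F)) := by
      rintro ⟨a, b⟩ ⟨a', b'⟩ e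
      have e' := QuotientGroup.eq.1 e
      have key : (r (a, b))⁻¹ * r (a', b') =
          sg0 F ((S a)⁻¹ * S a') * pm0 F ((P b)⁻¹ * P b') := by
        simp only [r, map_mul, map_inv]
        calc (sg0 F (S a) * pm0 F (P b))⁻¹ * (sg0 F (S a') * pm0 F (P b'))
            = ((pm0 F (P b))⁻¹ * sg0 F (S a) * pm0 F (P b))⁻¹ *
              ((pm0 F (P b))⁻¹ * sg0 F (S a') * pm0 F (P b)) * ((pm0 F (P b))⁻¹ * pm0 F (P b')) := by group
          _ = _ := by rw [hinv, hinv]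
      rw [key] at e'
      obtain ⟨h1, h3⟩ := par_eq_one F hq _ _ e'
      exact reps_par a b a' b' h1 h3
    have hbij : Function.Bijective fun x => (QuotientGroup.mk (r x) : O7 F ⧸ commutator (O7 F)) := by
      haveI : Finite (O7 F ⧸ commutator (O7 F)) := Nat.finite_of_card_ne_zero (by
        rw [← Subgroup.index_eq_card, (card_G7 F hq).1]; norm_num)
      refine (Nat.bijective_iff_injective_and_card _).2 ⟨hf, ?_⟩
      rw [← Subgroup.index_eq_card, (card_G7 F hq).1]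
      simp
    obtain ⟨g, hg⟩ := fuse0 F h2
    obtain ⟨x, hx⟩ := hbij.2 (QuotientGroup.mk g⁻¹)
    have hmem : g * r x ∈ commutator (O7 F) := by
      have := QuotientGroup.eq.1 hx.symm
      rwa [inv_inv] at this
    have hc : r x * sg0 F (pr 0 2) * (r x)⁻¹ = sg0 F (pr 0 2) := by
      have h : pm0 F (P x.2) * sg0 F (pr 0 2) * (pm0 F (P x.2))⁻¹ = sg0 F (pr 0 2) := by
        rw [conj0]; exact congrArg _ (funext fun i => (reps x.1 x.2 i).2)
      have hcm : Commute (sg0 F (S x.1)) (sg0 F (pr 0 2)) := (Commute.all _ _).map (sg0 F)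
      calc r x * sg0 F (pr 0 2) * (r x)⁻¹
          = sg0 F (S x.1) * (pm0 F (P x.2) * sg0 F (pr 0 2) * (pm0 F (P x.2))⁻¹) * (sg0 F (S x.1))⁻¹ := by
            simp only [r]; group
        _ = _ := by rw [h, hcm.eq]; group
    refine ⟨⟨g * r x, hmem⟩, Subtype.ext ?_⟩
    show g * r x * sg0 F (pr 0 2) * (g * r x)⁻¹ = pm0 F zp
    rw [← hg]
    calc g * r x * sg0 F (pr 0 2) * (g * r x)⁻¹ = g * (r x * sg0 F (pr 0 2) * (r x)⁻¹) * g⁻¹ := by group
      _ = _ := by rw [hc]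

end CfsgLib.O7Sylow
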